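import Groth.Agent.ProjBd.K426.Twist
import Groth.Agent.ASBun.K791.Dual
import Groth.Agent.Dcoh.FinLocFree
import Groth.Agent.Grpsch.PicGrp

/-!
# Projective line bundles with two or three disjoint sections
-/

set_option autoImplicit false
set_option backward.isDefEq.respectTransparency false
universe u

open CategoryTheory CategoryTheory.Limits AlgebraicGeometry TopologicalSpace Opposite

namespace K426.Split

variable {X P : Scheme.{u}} {π : P ⟶ X} {E : X.Modules} {O1 : P.Modules}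
  {q : (Scheme.Modules.pullback π).obj E ⟶ O1}

/-- Two disjoint sections: the bundle of a sum of two invertible modules. -/
theorem two_sections (hE : FlatMod.IsFinLocFreeOfRank 2 E) (hPB : KRR.IsProjBundle π E O1 q) (s₁ s₂ : X ⟶ P)
    (hs₁ : s₁ ≫ π = 𝟙 X) (hs₂ : s₂ ≫ π = 𝟙 X) (hdisj : Disjoint (Set.range s₁) (Set.range s₂)) :
    ∃ L₁ L₂ : X.Modules, FlatMod.IsFinLocFreeOfRank 1 L₁ ∧ FlatMod.IsFinLocFreeOfRank 1 L₂ ∧
      ∃ (O1 : P.Modules) (q : (Scheme.Modules.pullback π).obj (L₁ ⊞ L₂) ⟶ O1),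
        KRR.IsProjBundle π (L₁ ⊞ L₂) O1 q :=
  ⟨_, _, K426.Sects.invertible_pull hPB s₁, K426.Sects.invertible_pull hPB s₂, O1, _,
    Groth.Agent.Krr.H484.PBTransport.of_iso (K426.Sects.iso₂ hE hPB s₁ s₂ hs₁ hs₂ hdisj) hPB⟩

/-- `(M ⊞ M) ⊗ M⁻¹ ≅ O²`. -/
theorem exists_free {M : X.Modules} (hM : PicF.IsInvertible M) :
    ∃ N : X.Modules, PicF.IsInvertible N ∧ Nonempty (CohB1.tensorMod (M ⊞ M) N ≅ FlatMod.freeMod X 2) := by
  have hD := Groth.Agent.Grpsch.PicGrp.isInvertible_dual hM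
  have h1 := (Groth.Agent.Grpsch.PicGrp.mk_eq_one_iff (Groth.Agent.Fdesc.LocGen.isInvertible_tensorMod hM hD)).1 (by
    rw [← Groth.Agent.Grpsch.PicGrp.mk_mul_mk hM hD, ← Groth.Agent.Grpsch.PicGrp.inv_mk hM, mul_inv_cancel])
  obtain ⟨e⟩ := h1
  obtain ⟨e'⟩ := Groth.Agent.Dcoh.FinLocFree.nonempty_biprod_freeMod_iso X 1 1
  let e₁ := e ≪≫ Groth.Agent.Ega2.QCohLocal.freeModOneIso X
  exact ⟨_, hD, ⟨Groth.Agent.ASBun.K791.Dual.biprodTens M M _ ≪≫ biprod.mapIso e₁ e₁ ≪≫ e'⟩⟩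

/-- Three disjoint sections: the trivial bundle. -/
theorem three_sections (hE : FlatMod.IsFinLocFreeOfRank 2 E) (hPB : KRR.IsProjBundle π E O1 q) (s₁ s₂ s₃ : X ⟶ P)
    (hs₁ : s₁ ≫ π = 𝟙 X) (hs₂ : s₂ ≫ π = 𝟙 X) (hs₃ : s₃ ≫ π = 𝟙 X)
    (h₁₂ : Disjoint (Set.range s₁) (Set.range s₂)) (h₁₃ : Disjoint (Set.range s₁) (Set.range s₃))
    (h₂₃ : Disjoint (Set.range s₂) (Set.range s₃)) :
    ∃ (O1 : P.Modules) (q : (Scheme.Modules.pullback π).obj (FlatMod.freeMod X 2) ⟶ O1),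
      KRR.IsProjBundle π (FlatMod.freeMod X 2) O1 q := by
  obtain ⟨M, hM, ⟨ε⟩⟩ := K426.Sects.exists_iso_three hE hPB s₁ s₂ s₃ hs₁ hs₂ hs₃ h₁₂ h₁₃ h₂₃
  obtain ⟨N, hN, ⟨e⟩⟩ := exists_free (Groth.Agent.Ega2.QCohLocal.isFinLocFreeOfRank_one_iff.1 hM)
  have h1 := Groth.Agent.Krr.H484.PBTransport.of_iso ε hPB
  have hMM : FlatMod.IsFinLocFreeOfRank 2 (M ⊞ M) := Groth.Agent.Krr.H495.Rank.rank_biprod (n := 1) (m := 1) hM hM
  exact ⟨_, _, Groth.Agent.Krr.H484.PBTransport.of_iso e (K426.Twist.isProjBundle_twist _ hMM hN h1)⟩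

end K426.Split
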